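import Cfsg.Agent.ODD.Fin.All
import Cfsg.Agent.ODD.Spor.Main
import Cfsg.Agent.TAB.F42.G.Out

/-!
# ODD: `AllQA` and `AllQB` without hypotheses (helper17)
-/

set_option autoImplicit false

namespace Cfsg.Agent.ODD.Fin

theorem f42 : F42 := fun F _ _ hF => TAB.F42.G.odd F hF

theorem qa : Red.AllQA := allQA f42 Spor.sporIn

theorem qb : Red.AllQB := allQB f42 Spor.sporIn

end Cfsg.Agent.ODD.Fin
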