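import Cfsg.Agent.ODD.Fin.Box
import Cfsg.Agent.ODD.PS.C3Main
import Cfsg.Agent.ODD.C2.Two
import Cfsg.Agent.ODD.FA.SU
import Cfsg.Agent.ODD.QB.Fin
import Cfsg.Agent.ODD.Spor.TitsB
import Cfsg.Agent.TAB.Sm2.Tits

/-!
# ODD: everything from `F₄(2)` and the sporadic tables (helper17)
-/

set_option autoImplicit false
set_option maxHeartbeats 400000

namespace Cfsg.Agent.ODD.Fin

open Cfsg Cfsg.Lie

universe u

/-- the group `F₄(2)` -/
def F42 : Prop := ∀ (F : Type) [Field F] [Fintype F], Fintype.card F = 2 → OddRat (chevF4.group F)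

theorem c3 : C3 := fun F _ _ _ hm h4 => PS.C3.oddRat_psp3 F (by omega) h4

theorem boxA : BoxA where
  psl := FA.boxA_psl
  psu := FA.boxA_psu
  e6 := Pos.boxE6 hM
  tw := Pos.boxTw hM
  tits := Spor.titsA_of TAB.Sm2.Tits.qa

theorem boxO (h4 : F42) (hS : Spor.SporIn) : BoxO := boxO_of c3 (C2.two_of4 h4) hS

theorem allQA (h4 : F42) (hS : Spor.SporIn) : Red.AllQA := Red.allQA_of (boxO h4 hS) boxA

theorem allQB (h4 : F42) (hS : Spor.SporIn) : Red.AllQB := Red.allQB_of (boxO h4 hS) QB.boxB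

end Cfsg.Agent.ODD.Fin
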