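import Cfsg.Agent.ODD.Red.All
import Cfsg.Agent.ODD.Sd.Main
import Cfsg.Agent.ODD.AH.Main
import Cfsg.Agent.ODD.Hk.Main
import Cfsg.Agent.ODD.PW.Rows
import Cfsg.Agent.ODD.PX.Rows
import Cfsg.Agent.ODD.Exc.U43
import Cfsg.Agent.ODD.Exc.G23
import Cfsg.Agent.ODD.Exc.O73
import Cfsg.Agent.ODD.C2.Exc
import Cfsg.Agent.ODD.Spor.Row
import Cfsg.Agent.ODD.FA.SL
import Cfsg.Agent.ODD.QB.SL
import Cfsg.Agent.ODD.Pos.Tw

/-!
# ODD: the boxes from the rows which were open at the time of writing (helper17)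

* `boxO_of` : `PSp_{2m}(q)` with `q ≡ 3 mod 4`, characteristic `2`, the sporadic groups;
* `boxA_of`, `boxB_of` : `SU_n(q)`, the Tits group (and `E₆`, `²E₆` for `QB`).
-/

set_option autoImplicit false
set_option maxHeartbeats 400000

namespace Cfsg.Agent.ODD.Fin

open Cfsg

theorem hM : AH.Main := AH.main Hk.ho

theorem rowO_u43 : RowO Cv.U43 := Alt.rowO_of_allR fun _ _ _ ⟨_, _, _, h, ⟨e⟩⟩ => (Exc.allR_u43 h).congr e

theorem rowO_g23 : RowO Cv.G23 := Alt.rowO_of_allR fun _ _ _ ⟨_, _, _, h, ⟨e⟩⟩ => (Exc.allR_g23 h).congr e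

theorem rowO_o73 : RowO Cv.O73 := Alt.rowO_of_allR fun _ _ _ ⟨_, _, _, h, ⟨e⟩⟩ => (Exc.allR_o73 h).congr e

/-- the symplectic groups with `q ≡ 3 mod 4` -/
def C3 : Prop :=
  ∀ (F : Type) [Field F] [Fintype F] (m : ℕ), 2 ≤ m → Fintype.card F % 4 = 3 → OddRat (PSp m F)

theorem rowO_psp (h : C3) : RowO PspO := by
  refine Cv.plain_psp.rowO ?_
  rintro S _ _ _ ⟨F, _, _, m, hF, hm, ⟨e⟩⟩
  refine Cv.oddRat_congr e ?_
  rw [Nat.odd_iff] at hF
  by_cases h4 : Fintype.card F % 4 = 1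
  · exact PW.oddRat_psp hM F hm h4
  · exact h F m hm (by omega)

theorem boxO_of (h3 : C3) (h2 : RowO fun S _ => IsLieTypeChar 2 S) (hS : Spor.SporIn) : BoxO where
  alt := Alt.rowAlt
  two := h2
  psp := rowO_psp h3
  podd := Cv.rowO_podd (PW.rowS_podd hM) rowO_o73
  plus := Cv.plain_plus.rowO (PW.rowS_plus hM)
  minus := Cv.plain_minus.rowO (PW.rowS_minus hM)
  g2 := PX.rowO_g2' hM rowO_g23
  f4 := PX.rowO_f4 hM
  e7 := PX.rowO_e7 hM
  e8 := PX.rowO_e8 hM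
  d4 := PX.rowO_d4 hM
  ree := Alt.rowRee
  spor := Spor.spor_of hS

theorem boxA_of (hU : ∀ (F : Type) [Field F] [Fintype F] (n q : ℕ), Odd q → Fintype.card F = q ^ 2 → 3 ≤ n →
    QA (SU n F q)) (hT : RowA fun S _ => Lie.IsoTits S) : BoxA where
  psl := FA.boxA_psl
  psu := Cv.rowA_psu rowO_u43 hU
  e6 := Pos.boxE6 hM
  tw := Pos.boxTw hM
  tits := hT

theorem boxB_of (hU : ∀ (F : Type) [Field F] [Fintype F] (n q : ℕ), Odd q → Fintype.card F = q ^ 2 → 3 ≤ n →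
    QB (SU n F q)) (h6 : RowB (ChevO Lie.chevE6)) (ht : RowB TwE6O) (hT : RowB fun S _ => Lie.IsoTits S) : BoxB where
  psl := QB.boxB_psl
  psu := Cv.rowB_psu rowO_u43 hU
  e6 := h6
  tw := ht
  tits := hT

end Cfsg.Agent.ODD.Fin
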